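import Cfsg.Agent.Lib.AN.Core
import Cfsg.Agent.Lib.NF.Refl
import Cfsg.Agent.Lib.FQ.Lift
import Cfsg.Agent.Lib.PGroup.Holomorph

/-!
# Self-normalizing operator groups: the Thompson factorization
-/

set_option autoImplicit false
set_option linter.unusedSectionVars false

namespace Cfsg.Lib.AN

open Subgroup Cfsg.Lib.BG Cfsg.Lib.Transfer Cfsg.Lib.Loc Cfsg.Lib.PLocal Cfsg.Lib.FH Cfsg.Lib.FQ
open Cfsg.Lib.NF (refl Dh exists_dh)
open scoped commutatorElement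

variable {X : Type*} [Group X] {A D H S T U V W Z : Subgroup X}

/-- `S` contains no offender on `W`, and a near offender has order 2 and codimension 2. -/
def Q2 (S W : Subgroup X) : Prop := ∀ D ≤ S, (∀ d ∈ D, d ^ 2 ∈ 𝐂(W)) →
  𝐂(D).relIndex W ≤ 2 * 𝐂(W).relIndex D → D ≤ 𝐂(W) ∨ 𝐂(W).relIndex D = 2 ∧ 𝐂(D).relIndex W = 4

/-- `O₂(H / C_H(V)) = 1`. -/
def Red (H V : Subgroup X) : Prop := ∀ R, Nml R H → (∀ r ∈ R, ∃ k, r ^ 2 ^ k ∈ 𝐂(V)) → R ≤ 𝐂(V)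

theorem Q2.mono (h : Q2 S W) (hT : T ≤ S) : Q2 T W := fun D hD => h D (hD.trans hT)

theorem Q2.conj (h : Q2 S W) (x : X) : Q2 (x ⋆ S) (x ⋆ W) := by
  intro D hD
  obtain ⟨D, rfl⟩ : ∃ D', D = x ⋆ D' := ⟨x⁻¹ ⋆ D, (conj_inv_conj x D).symm⟩
  simp only [← conj_centralizer, relIndex_conj, conj_le_conj_iff] at hD ⊢
  refine fun h1 => h D hD fun d hd => ?_
  have := h1 _ (conj_mem_conj.2 hd)
  rwa [conj_pow, conj_mem_conj] at this

theorem tf_el (h : ∀ x ∈ D, x ^ 2 = 1) : IsElementaryAbelian 2 D := by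
  have i : ∀ x ∈ D, x⁻¹ = x := fun x hx => inv_eq_of_mul_eq_one_right (pow_two x ▸ h x hx)
  refine ⟨abelian_iff.2 (le_cent_iff.2 fun a ha b hb => ?_), h⟩
  rw [← i _ (mul_mem ha hb), mul_inv_rev, i a ha, i b hb]

theorem tf_ncl {g : X} (hg : g ∈ H) : ncl (g ⋆ Z) H = ncl Z H :=
  le_antisymm (ncl_le (conj_le_ncl Z hg) (norm_ncl Z H)) (ncl_le
    ((inv_conj_conj g Z).ge.trans (conj_le_ncl _ (inv_mem hg))) (norm_ncl _ H))

variable [Finite X]

/-- `S ⊓ R` is Sylow in `R` and `R ⊓ 𝐂(V)` has index a power of 2 in `R`, so `R = (R ⊓ 𝐂(V)) (S ⊓ R) ≤ 𝐂(Z)`; `R` is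
normal. -/
theorem red_ncl (hS : Syl 2 S H) (hZ : S ≤ 𝐂(Z)) : Red H (ncl Z H) := by
  intro R hR h
  have h1 : R ≤ 𝐂(Z) := Syl.le_of_forall fun q hq _ => by
    haveI := Fact.mk hq
    by_cases e : q = 2
    · subst e
      exact ⟨_, hS.inf_nml hR, inf_le_left.trans hZ⟩
    obtain ⟨P, hP⟩ := Syl.exists q R
    refine ⟨P, hP, fun r hr => ?_⟩
    obtain ⟨k, hk⟩ := h r (hP.le hr)
    obtain ⟨n, hn⟩ := IsPGroup.iff_orderOf.1 hP.pgroup ⟨r, hr⟩
    refine cent_anti (le_ncl Z H) (zpowers_le.2 hk (mem_zpowers_pow_iff.2 ?_))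
    rw [← orderOf_coe] at hn
    rw [hn]
    exact Nat.coprime_pow_primes _ _ Nat.prime_two hq (Ne.symm e)
  exact cent_symm (ncl_le (cent_symm h1) (norm_cent hR.norm))

/-- Let `ρ : 𝐍(V) → MulAut V → Hol V`; apply `refl` to `holL V`, the image of `H` and the image of `D`. The
hypothesis `nr` comes from `core1`: an element of odd order of the image of `H` has a preimage of odd order. -/
theorem q2_of_red (h : SN H A) (hs : Group.IsSolvable H) (hV : IsElementaryAbelian 2 V) (vH : Nml V H)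
    (aV : A ≤ 𝐍(V)) (r : Red H V) : Q2 H V := by
  intro D hD h1 h2
  let ρ := V.normalizerMonoidHom
  let φ := (PGroup.holR V).comp ρ
  have hk : φ.ker = 𝐂(V).subgroupOf 𝐍(V) := by
    rw [← V.normalizerMonoidHom_ker]
    exact MonoidHom.ker_comp_of_injective _ _ PGroup.holR_injective
  have hk' : ∀ x : 𝐍(V), φ x = 1 ↔ (x : X) ∈ 𝐂(V) := fun x => by
    rw [← MonoidHom.mem_ker, hk, mem_subgroupOf]
  have hm : ∀ K : Subgroup X, (K.subgroupOf 𝐍(V)).map φ =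
      ((K.subgroupOf 𝐍(V)).map ρ).map (PGroup.holR V) := fun K => (map_map _ _ _).symm
  have dV := hD.trans vH.norm
  have i1 : Nat.card ((D.subgroupOf 𝐍(V)).map φ) = 𝐂(V).relIndex D := by
    rw [← relIndex_ker, hk, relIndex_subgroupOf dV]
  have i2 : 𝐂((D.subgroupOf 𝐍(V)).map φ).relIndex ((⊤ : Subgroup V).map (PGroup.holL V)) =
      𝐂(D).relIndex V := by
    rw [← relIndex_comap, relIndex_top_right, relIndex]
    congr 1
    ext v
    rw [mem_comap, hm, PGroup.holL_mem_centralizer_iff, mem_subgroupOf, BG.mem_cent]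
    refine ⟨fun e d hd => ?_, ?_⟩
    · exact mul_inv_eq_iff_eq_mul.1 (congrArg Subtype.val (e _ ⟨⟨d, dV hd⟩, hd, rfl⟩))
    · rintro e _ ⟨d, hd, rfl⟩
      exact Subtype.ext (mul_inv_eq_iff_eq_mul.2 (e d hd))
  by_cases e0 : (D.subgroupOf 𝐍(V)).map φ = ⊥
  · exact Or.inl fun d hd => (hk' ⟨d, dV hd⟩).1 (mem_bot.1 (e0 ▸ mem_map_of_mem φ hd))
  right
  rw [← i1, ← i2] at h2 ⊢
  refine refl (H := (H.subgroupOf 𝐍(V)).map φ) ?_ (hm H ▸ PGroup.map_holR_le_normalizer_top _)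
    (sol_map _ ((sol_subOf_iff vH.norm).2 hs)) (hm H ▸ PGroup.map_holR_inf_centralizer_top _) ?_ ?_
    (tf_el ?_) (map_mono (subgroupOf_mono _ hD)) e0 h2
  · refine tf_el ?_
    rintro _ ⟨v, -, rfl⟩
    rw [← map_pow, show v ^ 2 = 1 from Subtype.ext (hV.2 v v.2), map_one]
  · have n := pcore_nml {2} ((H.subgroupOf 𝐍(V)).map φ)
    have g := pcore_pgroup 2 ((H.subgroupOf 𝐍(V)).map φ)
    generalize 𝐎({2}, (H.subgroupOf 𝐍(V)).map φ) = O at n g
    have a := r (H ⊓ (O.comap φ).map 𝐍(V).subtype) ⟨inf_le_left, norm_inf (le_norm H) ?_⟩ ?_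
    · refine eq_bot_iff.2 fun y hy => ?_
      obtain ⟨x, hx, rfl⟩ := n.le hy
      exact (hk' x).2 (a ⟨hx, x, hy, rfl⟩)
    · refine le_norm_iff.2 ?_
      rintro a ha _ ⟨y, hy, rfl⟩
      refine ⟨⟨a, vH.norm ha⟩ * y * ⟨a, vH.norm ha⟩⁻¹, ?_, rfl⟩
      rw [SetLike.mem_coe, mem_comap, map_mul, map_mul, map_inv]
      exact conj_mem_of_norm (n.norm (mem_map_of_mem φ ha)) hy
    · rintro _ ⟨-, y, hy, rfl⟩
      obtain ⟨k, e⟩ := g ⟨φ y, hy⟩
      exact ⟨k, (hk' (y ^ 2 ^ k)).1 (by rw [map_pow]; exact congrArg Subtype.val e)⟩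
  · rintro _ ⟨x, hx, rfl⟩ ox cx
    obtain ⟨y, hy, z, hz, y1, z1, e, -⟩ := exists_pi_decomp {2}ᶜ x
    have z2 : φ z = 1 := by
      refine PiElt.eq_one (π := {2}ᶜ) (PiGrp.elt (H := zpowers (φ x)) ?_ ?_) (z1.map φ)
      · rw [PiGrp.p'_iff, Nat.card_zpowers]
        exact ox.not_two_dvd_nat
      · rw [← MonoidHom.map_zpowers]
        exact mem_map_of_mem φ hz
    rw [e, map_mul, z2, mul_one] at cx ⊢
    have y2 : (y : X) ∈ H := zpowers_le.2 hx hy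
    have y3 : Odd (orderOf (y : X)) := by
      rw [orderOf_coe, ← Nat.not_even_iff_odd, even_iff_two_dvd]
      exact PiNat.p'_iff.1 y1
    rw [(hk' y).2 (core1 h hV vH aV y2 y3 (le_trans ?_ cx))]
    · exact one_mem _
    refine (card_le_of_le (K := ((⁅(⊤ : Subgroup V).map (PGroup.holL V), zpowers (φ y)⁆).comap
      (PGroup.holL V)).map V.subtype) (commutator_le.2 fun v hv d hd => ?_)).trans ?_
    · obtain ⟨k, rfl⟩ := mem_zpowers_iff.1 hd
      refine ⟨⟨v, hv⟩ * ρ (y ^ k) ⟨v, hv⟩⁻¹, ?_, (mul_assoc v _ _).symm.trans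
        (congrArg (· * _) (mul_assoc v _ _).symm)⟩
      rw [SetLike.mem_coe, mem_comap, ← PGroup.hol_commutator]
      exact commutator_mem_commutator (mem_map_of_mem _ (mem_top _))
        (mem_zpowers_iff.2 ⟨k, (map_zpow φ y k).symm⟩)
    · rw [card_map_of_injective V.subtype_injective]
      exact Nat.le_of_dvd Nat.card_pos (card_comap_dvd_of_injective _ _ PGroup.holL_injective)
  · rintro _ ⟨d, hd, rfl⟩
    rw [← map_pow]
    exact (hk' _).2 (h1 d hd)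

/-- A member `B` of `maxIn 2 T` has `|V : C_V(B)| ≤ |B : C_B(V)|` (`max_off`), so `Q2` gives `B ≤ 𝐂(V)`. -/
theorem Q2.thompson_le (h : Q2 T V) (hV : IsElementaryAbelian 2 V) (vT : V ≤ T) : 𝐉 T ≤ 𝐂(V) := by
  refine thompsonSubgroupOf_le_iff.2 fun B hB => ?_
  have a := CS.max_off hB vT hV
  rcases h B hB.1 (fun d hd => hB.2.1.2 d hd ▸ one_mem _) (by omega) with e | e
  · exact e
  · omega

/-- `V = ncl (𝛀 T) H ≤ 𝐎({2}, H)` is elementary abelian and normal. It does not depend on the Sylow subgroup, so it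
is `A`-invariant. `𝐉 T ≤ C = H ⊓ 𝐂(V)`, `𝐉 T = 𝐉 (T ⊓ C)`, Frattini argument, and `C ≤ 𝐂(𝛀 T)`. -/
theorem tf0 (h : SN H A) (hs : Group.IsSolvable H) (h0 : 𝐎({2}ᶜ, H) = ⊥) (hT : Syl 2 T H) :
    H ≤ H ⊓ 𝐍(𝐉 T) ⊔ H ⊓ 𝐂(𝛀 T) := by
  have q := hT.pcore_le
  have c := cent_sub_Fitting hs
  rw [Fitting_eq_pcore h0] at c
  have z : 𝛀 T ≤ 𝛀 𝐎({2}, H) := le_oz (oz_elemAb T) ((le_inf ((oz_le T).trans hT.le)
    ((oz_le_centralizer T).trans (cent_anti q))).trans c) ((oz_le_centralizer T).trans (cent_anti q))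
  have v := ncl_le z ((pcore_nml {2} H).norm.trans (normalizer_le_normalizer_oz _))
  have hV := elab_of_le (oz_elemAb _) v
  have aV : A ≤ 𝐍(ncl (𝛀 T) H) := by
    obtain ⟨S, hS, aS⟩ := h.syl 2
    obtain ⟨g, hg, rfl⟩ := hT.exists_conj_eq hS
    rw [← tf_ncl hg, conj_oz]
    exact norm_ncl_of_norm (aS.trans (normalizer_le_normalizer_oz _)) h.norm
  have j := ((q2_of_red h hs hV (ncl_nml ((oz_le T).trans hT.le)) aV
    (red_ncl hT (le_centralizer_oz T))).mono hT.le).thompson_le hV (v.trans ((oz_le _).trans q))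
  have n := Nml.cent (norm_ncl (𝛀 T) H)
  refine (Syl.frattini (hT.inf_nml n) n).ge.trans (sup_le (le_sup_of_le_right
    (inf_le_inf_left _ (cent_anti (le_ncl _ _)))) (le_sup_of_le_left (inf_le_inf_left _ ?_)))
  rw [← thompsonSubgroupOf_eq_of_le (le_inf (thompsonSubgroupOf_le T)
    (le_inf ((thompsonSubgroupOf_le T).trans hT.le) j)) inf_le_left]
  exact normalizer_le_normalizer_thompsonSubgroupOf _

/-- Normalizers of 2-subgroups lift from the quotient by a normal subgroup of odd order. -/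
theorem tf_lift {O : Subgroup X} (n : Nml O H) (o : PiGrp {2}ᶜ O) (hU : IsPGroup 2 U) (uH : U ≤ H) :
    quo H O ⊓ 𝐍(quo U O) ≤ quo (H ⊓ 𝐍(U)) O := by
  rintro _ ⟨⟨x, hx, rfl⟩, e⟩
  have uO := uH.trans n.norm
  have a : zpowers (x : X) ≤ 𝐍(O ⊔ U) := norm_of_quo_norm (zpowers_le.2 x.2) uO (by
    rintro _ ⟨y, ⟨k, hk⟩, rfl⟩
    rw [show y = x ^ k from Subtype.ext hk.symm, map_zpow]
    exact 𝐍(quo U O).zpow_mem e k)
  have s : Syl 2 U (O ⊔ U) := (Hall.of_sd (π := {2}ᶜ) (SD.of_norm uO ((inf_comm _ _).trans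
    ((PiGrp.p_iff.2 hU).inf_eq_bot o))) o (by rw [compl_compl]; exact PiGrp.p_iff.2 hU)).2.congr
      fun q _ _ => by rw [compl_compl]
  have f := Syl.frattini s (Nml.inf_norm (sup_le n.le uH))
  have b : H ⊓ 𝐍(O ⊔ U) ≤ O ⊔ H ⊓ 𝐍(U) := f.ge.trans (sup_le (sup_le_sup_left (le_inf uH (le_norm U)) O)
    (le_sup_of_le_right (inf_le_inf_right _ inf_le_left)))
  exact (quo_le_quo_iff (inf_le_left.trans n.norm) (inf_le_left.trans n.norm)).2 b
    ⟨x, ⟨hx, a (mem_zpowers _)⟩, rfl⟩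

/-- `tf0` in the quotient by `O = 𝐎({2}ᶜ, H) ≤ 𝐂(U)`; normalizers and centralizers of 2-subgroups lift
(`FQ/Lift`: `comap_norm`, `map_thompson`, `cent_of`). -/
theorem tf (h : SN H A) (hs : Group.IsSolvable H) (hU : IsPGroup 2 U) (uH : Nml U H) (hT : Syl 2 T H) :
    H ≤ H ⊓ 𝐂(U) ⊔ H ⊓ 𝐍(𝐉 T) ⊔ H ⊓ 𝐂(𝛀 T) := by
  have n := pcore_nml {2}ᶜ H
  have o := pcore_pi {2}ᶜ H
  have a := tf0 (h.quo n (norm_pcore h.norm _)) (sol_quo hs _) (pcore_quo_pcore _ H)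
    (Hall.quo hT n.norm)
  generalize 𝐎({2}ᶜ, H) = O at n o a
  have c : O ≤ H ⊓ 𝐂(U) := le_inf n.le
    (n.cent_of_disjoint uH ((inf_comm _ _).trans ((PiGrp.p_iff.2 hU).inf_eq_bot o)))
  have tO := hT.le.trans n.norm
  have j : 𝐉 (quo T O) = quo (𝐉 T) O := by
    rw [quo_def, quo_def, ← map_thompson (f := qhom O) (T := T.subgroupOf 𝐍(O)) ?_
      hT.pgroup.comap_subtype]
    · congr 1
      conv_rhs => rw [← subOf_map tO, ← map_thompsonSubgroupOf (subtype_injective _)]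
      exact (comap_map_eq_self_of_injective (subtype_injective _) _).symm
    · rw [qhom_ker, subOf_card (le_norm O)]
      exact Nat.coprime_two_right.1 o.coprime_p
  have l : H ⊓ 𝐂(U) ⊔ H ⊓ 𝐍(𝐉 T) ⊔ H ⊓ 𝐂(𝛀 T) ≤ 𝐍(O) :=
    (sup_le (sup_le inf_le_left inf_le_left) inf_le_left).trans n.norm
  refine (quo_le_quo_iff' n.norm ⟨c.trans (le_sup_left.trans le_sup_left), l⟩).1
    (a.trans (sup_le ?_ ?_))
  · rw [j]
    exact (tf_lift n o (pgroup_of_le hT.pgroup (thompsonSubgroupOf_le T))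
      ((thompsonSubgroupOf_le T).trans hT.le)).trans (quo_mono (le_sup_right.trans le_sup_left) O)
  · have z : quo (𝛀 T) O ≤ 𝛀 (quo T O) := le_oz (elab_quo (oz_elemAb T) O) (quo_mono (oz_le T) O)
      (quo_cent (oz_le_centralizer T) O)
    have zH := (oz_le (p := 2) T).trans hT.le
    have pz := pgroup_of_le hT.pgroup (oz_le (p := 2) T)
    intro y hy
    have hy' := cent_anti z hy.2
    obtain ⟨x, hx, rfl⟩ := tf_lift n o pz zH ⟨hy.1, cent_le_norm _ hy'⟩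
    refine ⟨x, mem_sup_right ⟨hx.1, BG.mem_cent.2 fun w hw => ?_⟩, rfl⟩
    refine commutatorElement_eq_one_iff_mul_comm.1 (mem_bot.1 ((PiGrp.p_iff.2 pz).inf_eq_bot o ▸
      mem_inf.2 ⟨?_, ?_⟩))
    · simpa only [commutatorElement_def, mul_assoc] using
        mul_mem hw (conj_mem_of_norm hx.2 (inv_mem hw))
    · have e : ⁅(⟨w, n.norm (zH hw)⟩ : 𝐍(O)), x⁆ ∈ (qhom O).ker := by
        rw [MonoidHom.mem_ker, map_commutatorElement]
        exact commutatorElement_eq_one_iff_mul_comm.2 (BG.mem_cent.1 hy' _ ⟨_, hw, rfl⟩)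
      rw [qhom_ker] at e
      exact e

end Cfsg.Lib.AN
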